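import Groth.Agent.CompleteNagata.Tate
import Groth.Agent.CohenLib.Structure
import Groth.Agent.RegLoc6.Normal
import Groth.Agent.S0546
import Groth.Agent.Adic7.Basic
import Groth.Agent.PSLib.Regular
import Groth.Agent.CohenLib.PowerSeries

/-!
# Complete Noetherian local rings are Nagata
-/

namespace Groth.Agent.CompleteNagata

universe u

open IsLocalRing

/-- Fields are N-2. -/
theorem isN2_field (k : Type u) [Field k] : CAlg.IsN2 k := by
  intro L _ _ _ _ hfin
  haveI : Module.Finite k (FractionRing k) := Module.Finite.of_surjective (Algebra.linearMap k (FractionRing k))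
    (IsFractionRing.surjective_iff_isField.mpr (Field.toIsField k))
  haveI : Module.Finite k L := Module.Finite.trans (FractionRing k) L
  exact Module.Finite.of_injective (integralClosure k L).val.toLinearMap Subtype.val_injective

/-- N-2 passes to finite extensions. -/
theorem isN2_of_finite {P A : Type u} [CommRing P] [IsDomain P] [IsNoetherianRing P] [CommRing A] [IsDomain A]
    (g : P →+* A) (hg : Function.Injective g) (hgf : g.Finite) (h : CAlg.IsN2 P) : CAlg.IsN2 A := by
  intro L _ _ _ _ hfin
  letI : Algebra P A := g.toAlgebra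
  haveI : Module.Finite P A := hgf
  haveI : FaithfulSMul P A := (faithfulSMul_iff_algebraMap_injective P A).2 hg
  let K := FractionRing P
  let KA := FractionRing A
  letI : Algebra K KA := FractionRing.liftAlgebra P KA
  haveI : IsScalarTower P K KA := FractionRing.isScalarTower_liftAlgebra P KA
  haveI : FiniteDimensional K KA := Module.Finite.of_isLocalization P A (nonZeroDivisors P)
  letI : Algebra P L := ((algebraMap A L).comp g).toAlgebra
  haveI : IsScalarTower P A L := IsScalarTower.of_algebraMap_eq fun _ => rfl
  letI : Algebra K L := ((algebraMap KA L).comp (algebraMap K KA)).toAlgebra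
  haveI : IsScalarTower K KA L := IsScalarTower.of_algebraMap_eq fun _ => rfl
  haveI : IsScalarTower P K L := IsScalarTower.of_algebraMap_eq fun a => by
    show algebraMap A L (g a) = algebraMap KA L (algebraMap K KA (algebraMap P K a))
    rw [← IsScalarTower.algebraMap_apply P K KA, IsScalarTower.algebraMap_apply P A KA,
      ← IsScalarTower.algebraMap_apply A KA L]
    rfl
  haveI : FiniteDimensional K L := Module.Finite.trans KA L
  haveI : Module.Finite P (integralClosure P L) := h L ‹_›
  haveI : Algebra.IsIntegral P A := inferInstance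
  let i : integralClosure A L →ₗ[P] integralClosure P L :=
    { toFun := fun z => ⟨z.1, isIntegral_trans z.1 z.2⟩
      map_add' := fun _ _ => rfl
      map_smul' := fun _ _ => rfl }
  haveI : Module.Finite P (integralClosure A L) :=
    Module.Finite.of_injective i fun a b h => Subtype.ext (congrArg (fun z : integralClosure P L => (z : L)) h)
  exact Module.Finite.of_restrictScalars_finite P A _

/-- Normal Noetherian domains with fraction field of characteristic zero are N-2. -/
theorem isN2_of_charZero (R : Type u) [CommRing R] [IsDomain R] [IsNoetherianRing R] [IsIntegrallyClosed R]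
    [CharZero R] : CAlg.IsN2 R := by
  intro L _ _ _ _ hfin
  haveI : CharZero (FractionRing R) :=
    charZero_of_injective_algebraMap (IsFractionRing.injective R (FractionRing R))
  exact IsIntegralClosure.finite R (FractionRing R) L (integralClosure R L)

/-- Power series rings over fields are N-2. -/
theorem isN2_mvPowerSeries_field (k : Type u) [Field k] :
    ∀ n, ∀ [IsDomain (MvPowerSeries (Fin n) k)], CAlg.IsN2 (MvPowerSeries (Fin n) k) := by
  intro n
  induction n with
  | zero =>
    intro _
    have h0 : ∀ f : MvPowerSeries (Fin 0) k, MvPowerSeries.C (MvPowerSeries.constantCoeff f) = f := fun f => by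
      ext d
      rw [show d = 0 from Subsingleton.elim _ _, MvPowerSeries.coeff_zero_eq_constantCoeff,
        MvPowerSeries.constantCoeff_C]
    exact N12Aux.isN2_of_ringEquiv
      (RingEquiv.ofBijective MvPowerSeries.C
        ⟨MvPowerSeries.C_injective, fun f => ⟨_, h0 f⟩⟩) (isN2_field k)
  | succ n ih =>
    intro _
    let R := MvPowerSeries (Fin (n + 1)) k
    haveI : IsDomain (MvPowerSeries (Fin n) k) := NoZeroDivisors.to_isDomain _
    obtain ⟨hN, hreg, hc⟩ := CohenLib.isRegular_complete_mvPowerSeries (Or.inl (Field.toIsField k)) (n + 1)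
    haveI := hN
    haveI := hreg
    haveI := hc
    haveI : IsIntegrallyClosed R := RegLoc6.isIntegrallyClosed_of_isRegularLocalRing R
    let g : R →+* MvPowerSeries (Fin n) k :=
      PowerSeries.constantCoeff.comp (MvPowerSeries.finSuccEquiv k n).toAlgHom.toRingHom
    have hg : Function.Surjective g :=
      PowerSeries.constantCoeff_surj.comp (MvPowerSeries.finSuccEquiv k n).surjective
    have hker : RingHom.ker g = Ideal.span {(MvPowerSeries.X 0 : R)} := by
      ext f
      rw [RingHom.mem_ker, Ideal.mem_span_singleton]
      show PowerSeries.constantCoeff (MvPowerSeries.finSuccEquiv k n f) = 0 ↔ _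
      rw [← PowerSeries.X_dvd_iff, ← MvPowerSeries.finSuccEquiv_X_zero]
      exact map_dvd_iff (MvPowerSeries.finSuccEquiv k n)
    haveI : (Ideal.span {(MvPowerSeries.X 0 : R)}).IsPrime := hker ▸ RingHom.ker_isPrime g
    have hle : Ideal.span {(MvPowerSeries.X 0 : R)} ≤ maximalIdeal R :=
      le_maximalIdeal (Ideal.IsPrime.ne_top inferInstance)
    haveI := S0546.result R (Ideal.span {(MvPowerSeries.X 0 : R)}) (maximalIdeal R) hle
      (Submodule.fg_span_singleton _) R
    exact isN2_of_tate R (MvPowerSeries.X 0) (N12Aux.isN2_of_ringEquiv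
      ((RingHom.quotientKerEquivOfSurjective hg).symm.trans (Ideal.quotEquivOfEq hker)) ih)

/-- Complete Noetherian local domains are N-2. -/
theorem isN2_of_complete (R : Type u) [CommRing R] [IsDomain R] [IsLocalRing R] [IsNoetherianRing R]
    [IsAdicComplete (maximalIdeal R) R] : CAlg.IsN2 R := by
  obtain ⟨Λ, _, n, f, hΛ, hf, hfin, -⟩ := CohenLib.exists_finite_injective R
  haveI : IsDomain (MvPowerSeries (Fin n) Λ) := hf.isDomain
  obtain ⟨hN, hreg, -⟩ := CohenLib.isRegular_complete_mvPowerSeries hΛ n
  haveI := hN
  refine isN2_of_finite f hf hfin ?_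
  rcases hΛ with hF | hC
  · let := hF.toField
    exact isN2_mvPowerSeries_field Λ n
  · obtain ⟨_, _, -, p, hp, hm⟩ := hC
    haveI := hreg
    haveI : IsIntegrallyClosed (MvPowerSeries (Fin n) Λ) := RegLoc6.isIntegrallyClosed_of_isRegularLocalRing _
    haveI : CharZero Λ := by
      obtain ⟨c, hc⟩ := CharP.exists Λ
      rcases CharP.char_is_prime_or_zero Λ c with hcp | rfl
      · exfalso
        refine IsDiscreteValuationRing.not_a_field Λ ?_
        rw [hm, Ideal.span_singleton_eq_bot]
        by_contra hp0
        rcases eq_or_ne c p with rfl | hne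
        · exact hp0 (CharP.cast_eq_zero Λ c)
        have hco : IsCoprime (c : ℤ) (p : ℤ) :=
          Nat.isCoprime_iff_coprime.mpr ((Nat.coprime_primes hcp hp).mpr hne)
        obtain ⟨a, b, hab⟩ := hco
        have h1 : (p : Λ) ∈ maximalIdeal Λ := hm ▸ Ideal.subset_span rfl
        refine (maximalIdeal.isMaximal Λ).ne_top ((Ideal.eq_top_iff_one _).mpr ?_)
        have h2 := congrArg (Int.cast : ℤ → Λ) hab
        push_cast at h2
        rw [CharP.cast_eq_zero, mul_zero, zero_add] at h2
        exact h2 ▸ Ideal.mul_mem_left _ _ h1
      · exact CharP.charP_to_charZero Λ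
    haveI : CharZero (MvPowerSeries (Fin n) Λ) := charZero_of_injective_ringHom MvPowerSeries.C_injective
    exact isN2_of_charZero _

/-- Complete Noetherian local rings are Nagata. -/
theorem isNagata_of_complete (R : Type u) [CommRing R] [IsLocalRing R] [IsNoetherianRing R]
    [IsAdicComplete (maximalIdeal R) R] : CAlg.IsNagata R := by
  refine ⟨inferInstance, fun p _ => ?_⟩
  haveI : IsLocalRing (R ⧸ p) := IsLocalRing.of_surjective' (Ideal.Quotient.mk p) Ideal.Quotient.mk_surjective
  haveI : IsAdicComplete (maximalIdeal R) (R ⧸ p) := Adic7.isAdicComplete_of_finite _ _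
  haveI : IsAdicComplete (maximalIdeal (R ⧸ p)) (R ⧸ p) := by
    rw [← map_maximalIdeal_of_surjective (algebraMap R (R ⧸ p)) Ideal.Quotient.mk_surjective]
    exact (IsAdicComplete.map_algebraMap_iff (S := R ⧸ p) (maximalIdeal R) (R ⧸ p)).mpr ‹_›
  exact isN2_of_complete (R ⧸ p)

end Groth.Agent.CompleteNagata
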