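import Groth.Agent.CompleteNagata.Complete
import Groth.Agent.CAlgOdd.NormalLocus
import Groth.Agent.N12Aux.Basic
import Groth.Agent.NagataLib.Localization

/-!
# The N-2 property from local and generic conditions
-/

namespace Groth.Agent.CompleteNagata

universe u

/-- A finite order with the given fraction field. -/
theorem exists_order (B : Type u) [CommRing B] [IsDomain B] (K' : Type u) [Field K'] [Algebra B K']
    [Algebra (FractionRing B) K'] [IsScalarTower B (FractionRing B) K'] [FiniteDimensional (FractionRing B) K'] :
    ∃ B' : Subalgebra B K', Module.Finite B B' ∧ IsFractionRing B' K' := by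
  classical
  let K := FractionRing B
  have hinj : Function.Injective (algebraMap B K') := by
    rw [IsScalarTower.algebraMap_eq B K K']
    exact (algebraMap K K').injective.comp (IsFractionRing.injective B K)
  let b := Module.Free.chooseBasis K K'
  have hex : ∀ i, ∃ s : B, s ≠ 0 ∧ IsIntegral B (algebraMap B K' s * b i) := fun i => by
    obtain ⟨s, hs⟩ := IsIntegral.exists_multiple_integral_of_isLocalization (nonZeroDivisors B) (b i)
      (IsIntegral.of_finite K (b i))
    exact ⟨s, nonZeroDivisors.ne_zero s.2, by rwa [← Algebra.smul_def]⟩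
  choose s hs hint using hex
  let B' := Algebra.adjoin B (Set.range fun i => algebraMap B K' (s i) * b i)
  refine ⟨B', Algebra.finite_adjoin_of_finite_of_isIntegral (Set.finite_range _)
    (by rintro _ ⟨i, rfl⟩; exact hint i), IsFractionRing.of_field B' K' fun z => ?_⟩
  let ι : FractionRing B' →+* K' :=
    IsFractionRing.lift (g := algebraMap B' K') (show Function.Injective (algebraMap B' K') from Subtype.val_injective)
  have hB : ∀ x : B', (x : K') ∈ ι.fieldRange := fun x => ⟨algebraMap B' _ x, IsFractionRing.lift_algebraMap _ x⟩
  have hAK : ∀ c : K, algebraMap K K' c ∈ ι.fieldRange := fun c => by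
    obtain ⟨x, y, -, rfl⟩ := IsFractionRing.div_surjective B c
    rw [map_div₀, ← IsScalarTower.algebraMap_apply, ← IsScalarTower.algebraMap_apply]
    exact div_mem (hB (algebraMap B B' x)) (hB (algebraMap B B' y))
  have hb : ∀ i, b i ∈ ι.fieldRange := fun i => by
    have h0 : algebraMap B K' (s i) ≠ 0 := (map_ne_zero_iff _ hinj).mpr (hs i)
    rw [← mul_div_cancel_left₀ (b i) h0]
    exact div_mem (hB ⟨_, Algebra.subset_adjoin ⟨i, rfl⟩⟩) (hB (algebraMap B B' (s i)))
  obtain ⟨w, hw⟩ : z ∈ ι.fieldRange := by
    rw [← b.sum_repr z]
    exact Subfield.sum_mem _ fun i _ => by rw [Algebra.smul_def]; exact mul_mem (hAK _) (hb i)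
  obtain ⟨x, y, -, rfl⟩ := IsFractionRing.div_surjective B' w
  refine ⟨x, y, ?_⟩
  simp only [ι] at hw
  rw [map_div₀, IsFractionRing.lift_algebraMap, IsFractionRing.lift_algebraMap] at hw
  exact hw.symm

theorem isN1_of_isN2 {S : Type u} [CommRing S] [IsDomain S] (h : CAlg.IsN2 S) : CAlg.IsN1 S :=
  h (FractionRing S) inferInstance

/-- Local rings of a finite extension of a locally N-2 domain are N-1. -/
theorem isN1_localization (B B' : Type u) [CommRing B] [IsDomain B] [IsNoetherianRing B] [CommRing B'] [IsDomain B']
    [Algebra B B'] [Module.Finite B B'] (hinj : Function.Injective (algebraMap B B'))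
    (hloc : ∀ (n : Ideal B) [n.IsMaximal], CAlg.IsN2 (Localization.AtPrime n)) (m : Ideal B') [m.IsMaximal] :
    CAlg.IsN1 (Localization.AtPrime m) := by
  let n : Ideal B := m.comap (algebraMap B B')
  haveI : n.IsMaximal := Ideal.isMaximal_comap_of_isIntegral_of_isMaximal m
  let M' := Algebra.algebraMapSubmonoid B' n.primeCompl
  have hM'0 : M' ≤ nonZeroDivisors B' := by
    rintro _ ⟨s, hs, rfl⟩
    exact mem_nonZeroDivisors_of_ne_zero ((map_ne_zero_iff _ hinj).mpr fun h => hs (h ▸ n.zero_mem))
  let T := Localization M'
  haveI : IsDomain T := IsLocalization.isDomain_localization hM'0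
  letI : Algebra (Localization.AtPrime n) T := (IsLocalization.map T (algebraMap B B')
    (show n.primeCompl ≤ M'.comap (algebraMap B B') from n.primeCompl.le_comap_map)).toAlgebra
  haveI : IsScalarTower B (Localization.AtPrime n) T := IsScalarTower.of_algebraMap_eq fun x => by
    rw [IsScalarTower.algebraMap_apply B B' T]
    exact (IsLocalization.map_eq (S := Localization.AtPrime n) _ x).symm
  haveI : Module.Finite (Localization.AtPrime n) T := Module.Finite.of_isLocalization B B' n.primeCompl
  haveI : IsNoetherianRing (Localization.AtPrime n) :=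
    IsLocalization.isNoetherianRing n.primeCompl _ inferInstance
  haveI : IsLocalization (Submonoid.map (algebraMap B B') n.primeCompl) T := (inferInstance : IsLocalization M' T)
  have hTinj : Function.Injective (algebraMap (Localization.AtPrime n) T) :=
    IsLocalization.map_injective_of_injective _ _ _ hinj
  have hT : CAlg.IsN2 T := isN2_of_finite _ hTinj (RingHom.finite_algebraMap.mpr inferInstance) (hloc n)
  have hle : M' ≤ m.primeCompl := by
    rintro _ ⟨s, hs, rfl⟩
    exact hs
  letI := IsLocalization.localizationAlgebraOfSubmonoidLe T (Localization.AtPrime m) M' m.primeCompl hle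
  haveI := IsLocalization.localization_isScalarTower_of_submonoid_le T (Localization.AtPrime m) M' m.primeCompl hle
  haveI := IsLocalization.isLocalization_of_submonoid_le T (Localization.AtPrime m) M' m.primeCompl hle
  have hnz : m.primeCompl.map (algebraMap B' T) ≤ nonZeroDivisors T := by
    rintro _ ⟨s, hs, rfl⟩
    exact mem_nonZeroDivisors_of_ne_zero
      ((map_ne_zero_iff _ (IsLocalization.injective T hM'0)).mpr fun h => hs (h ▸ m.zero_mem))
  haveI : IsDomain (Localization.AtPrime m) :=
    IsLocalization.isDomain_localization m.primeCompl_le_nonZeroDivisors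
  exact isN1_of_isN2 (NagataLib.isN2_of_isLocalization hT _ hnz (Localization.AtPrime m))

/-- The integral closure in a finite extension is finite if this holds locally and generically. -/
theorem finite_integralClosure_of_local_of_generic (B : Type u) [CommRing B] [IsDomain B] [IsNoetherianRing B]
    (hloc : ∀ (n : Ideal B) [n.IsMaximal], CAlg.IsN2 (Localization.AtPrime n))
    (K' : Type u) [Field K'] [Algebra B K'] [Algebra (FractionRing B) K'] [IsScalarTower B (FractionRing B) K']
    [FiniteDimensional (FractionRing B) K']
    (hgen : ∀ B' : Subalgebra B K', Module.Finite B B' → IsFractionRing B' K' →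
      ∃ f : B', f ≠ 0 ∧ IsIntegrallyClosed (Localization.Away f)) :
    Module.Finite B (integralClosure B K') := by
  obtain ⟨B', hB'fin, hB'frac⟩ := exists_order B K'
  obtain ⟨f, hf, hn⟩ := hgen B' hB'fin hB'frac
  haveI := hB'fin
  haveI := hB'frac
  have hinj : Function.Injective (algebraMap B B') := fun a b h => by
    have h1 := congrArg Subtype.val h
    exact ((algebraMap (FractionRing B) K').injective.comp (IsFractionRing.injective B (FractionRing B)))
      (by simpa [← IsScalarTower.algebraMap_apply] using h1)
  haveI : IsNoetherianRing B' := IsNoetherianRing.of_finite B B'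
  have hN1 : CAlg.IsN1 B' := CAlgOdd.NormalLocus.isN1_of_local hf hn fun m _ =>
    isN1_localization B B' hinj hloc m
  haveI : Module.Finite B' (integralClosure B' K') := N12Aux.finite_of_isN1 hN1 K'
  haveI : Module.Finite B (integralClosure B' K') := Module.Finite.trans B' _
  let i : integralClosure B K' →ₗ[B] integralClosure B' K' :=
    { toFun := fun z => ⟨z.1, IsIntegral.tower_top z.2⟩
      map_add' := fun _ _ => rfl
      map_smul' := fun _ _ => rfl }
  exact Module.Finite.of_injective i fun a b h =>
    Subtype.ext (congrArg (fun z : integralClosure B' K' => (z : K')) h)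

end Groth.Agent.CompleteNagata
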