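import Groth.Agent.CompleteNagata.Complete
import Groth.Agent.FormalFib6.Cplt
import Mathlib.RingTheory.Finiteness.Descent
import Mathlib.RingTheory.Nilpotent.GeometricallyReduced

/-!
# Analytically unramified local rings have finite normalization
-/

namespace Groth.Agent.CompleteNagata

universe u

open IsLocalRing TensorProduct

/-- Integral closures of a complete local ring in residue fields of finite reduced algebras are finite. -/
theorem finite_integralClosure_fractionRing (R S : Type u) [CommRing R] [IsLocalRing R] [IsNoetherianRing R]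
    [IsAdicComplete (maximalIdeal R) R] [CommRing S] [IsDomain S] [Algebra R S] [Module.Finite R S] :
    Module.Finite R (integralClosure R (FractionRing S)) := by
  let E := FractionRing S
  let P : Ideal R := RingHom.ker (algebraMap R S)
  haveI : P.IsPrime := RingHom.ker_isPrime _
  let g : R ⧸ P →+* S := Ideal.Quotient.lift P (algebraMap R S) fun a ha => ha
  have hg : Function.Injective g := RingHom.lift_injective_of_ker_le_ideal P _ le_rfl
  haveI : IsNoetherianRing S := IsNoetherianRing.of_finite R S
  have hgf : g.Finite := by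
    refine RingHom.Finite.of_comp_finite (f := Ideal.Quotient.mk P) ?_
    show (algebraMap R S).Finite
    exact RingHom.finite_algebraMap.mpr inferInstance
  have hS := isN2_of_finite g hg hgf ((isNagata_of_complete R).2 P)
  haveI : Module.Finite S (integralClosure S E) := hS E inferInstance
  haveI : Module.Finite R (integralClosure S E) := Module.Finite.trans S _
  let i : integralClosure R E →ₗ[R] integralClosure S E :=
    { toFun := fun z => ⟨z.1, IsIntegral.tower_top z.2⟩
      map_add' := fun _ _ => rfl
      map_smul' := fun _ _ => rfl }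
  exact Module.Finite.of_injective i fun a b h => Subtype.ext (congrArg (fun z : integralClosure S E => (z : E)) h)

/-- Integral closures in localizations of finite reduced algebras over complete local rings are finite. -/
theorem finite_integralClosure_localization (R B' Z : Type u) [CommRing R] [IsLocalRing R] [IsNoetherianRing R]
    [IsAdicComplete (maximalIdeal R) R] [CommRing B'] [IsReduced B'] [Algebra R B'] [Module.Finite R B']
    [CommRing Z] [Algebra B' Z] [Algebra R Z] [IsScalarTower R B' Z] (N : Submonoid B') (hN : N ≤ nonZeroDivisors B')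
    [IsLocalization N Z] : Module.Finite R (integralClosure R Z) := by
  classical
  haveI : IsNoetherianRing B' := IsNoetherianRing.of_finite R B'
  haveI : Finite (minimalPrimes B') := (minimalPrimes.finite_of_isNoetherianRing B').to_subtype
  haveI : ∀ P : minimalPrimes B', (P.1).IsPrime := fun P => P.2.1.1
  let σ : ∀ P : minimalPrimes B', B' →ₐ[R] FractionRing (B' ⧸ P.1) := fun P =>
    (IsScalarTower.toAlgHom R (B' ⧸ P.1) _).comp (Ideal.Quotient.mkₐ R P.1)
  have hunit : ∀ (P : minimalPrimes B') (s : N), IsUnit (σ P s) := fun P s => by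
    refine isUnit_iff_ne_zero.mpr fun h => ?_
    have h1 : Ideal.Quotient.mk P.1 (s : B') = 0 :=
      IsFractionRing.injective (B' ⧸ P.1) (FractionRing (B' ⧸ P.1)) (h.trans (map_zero _).symm)
    exact Set.disjoint_left.mp (Ideal.disjoint_nonZeroDivisors_of_mem_minimalPrimes P.2)
      (Ideal.Quotient.eq_zero_iff_mem.mp h1) (hN s.2)
  let Φ : ∀ P : minimalPrimes B', Z →ₐ[R] FractionRing (B' ⧸ P.1) := fun P =>
    IsLocalization.liftAlgHom (M := N) (hunit P)
  have hΦ : ∀ z : Z, (∀ P, Φ P z = 0) → z = 0 := fun z hz => by
    obtain ⟨w, s, rfl⟩ := IsLocalization.exists_mk'_eq N z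
    have hw : w = 0 := by
      refine IsReduced.eq_zero _ ((mem_nilradical.mp ?_) : IsNilpotent w)
      rw [nilradical, Ideal.zero_eq_bot, ← Ideal.sInf_minimalPrimes, Ideal.mem_sInf]
      intro P hP
      have h2 : σ ⟨P, hP⟩ w = 0 := by
        have h := hz ⟨P, hP⟩
        have h3 := congrArg (Φ ⟨P, hP⟩) (IsLocalization.mk'_spec Z w s)
        rw [map_mul, h, zero_mul] at h3
        exact ((IsLocalization.lift_eq (M := N) (hunit ⟨P, hP⟩) w).symm.trans h3.symm)
      exact Ideal.Quotient.eq_zero_iff_mem.mp
        (IsFractionRing.injective (B' ⧸ P) (FractionRing (B' ⧸ P)) (h2.trans (map_zero _).symm))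
    rw [hw, IsLocalization.mk'_zero]
  haveI : ∀ P : minimalPrimes B', Module.Finite R (integralClosure R (FractionRing (B' ⧸ P.1))) := fun P =>
    finite_integralClosure_fractionRing R (B' ⧸ P.1)
  let k : integralClosure R Z →ₗ[R] ((P : minimalPrimes B') → integralClosure R (FractionRing (B' ⧸ P.1))) :=
    LinearMap.pi fun P => (((Φ P).comp (integralClosure R Z).val).codRestrict
      (integralClosure R (FractionRing (B' ⧸ P.1))) fun z => (z.2 : IsIntegral R (z : Z)).map (Φ P)).toLinearMap
  exact Module.Finite.of_injective k fun a b h => Subtype.ext (sub_eq_zero.mp (hΦ _ fun P => by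
    rw [map_sub, sub_eq_zero]
    exact congrArg Subtype.val (congrFun h P)))

/-- Finiteness of the integral closure from reducedness of a completed finite algebra. -/
theorem finite_integralClosure_of_reduced_tensor (A B F : Type u) [CommRing A] [IsLocalRing A] [IsNoetherianRing A]
    [CommRing B] [CommRing F] [Algebra A B] [Module.Finite A B] [Algebra B F] [Algebra A F] [IsScalarTower A B F]
    (M : Submonoid B) [IsLocalization M F] (hM : M ≤ nonZeroDivisors B) (hred : IsReduced (EGA4.Cpl A ⊗[A] B)) :
    Module.Finite A (integralClosure A F) := by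
  let Ah := EGA4.Cpl A
  haveI := FlatLoc6.isLocalRing_cpl A
  haveI := FlatLoc6.isNoetherianRing_cpl A
  haveI := FlatLoc6.faithfullyFlat_cpl A
  haveI : IsAdicComplete (maximalIdeal Ah) Ah := by
    rw [AdicCompletion.maximalIdeal_eq_map_of_fg (IsNoetherian.noetherian (maximalIdeal A))]
    exact AdicCompletion.isAdicComplete_self _ (IsNoetherian.noetherian _)
  let ι : Ah ⊗[A] B →ₐ[Ah] Ah ⊗[A] F :=
    Algebra.TensorProduct.map (AlgHom.id Ah Ah) (IsScalarTower.toAlgHom A B F)
  letI : Algebra (Ah ⊗[A] B) (Ah ⊗[A] F) :=
    (Algebra.TensorProduct.map (AlgHom.id A Ah) (IsScalarTower.toAlgHom A B F)).toAlgebra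
  haveI : IsScalarTower Ah (Ah ⊗[A] B) (Ah ⊗[A] F) := IsScalarTower.of_algebraMap_eq fun a => (ι.commutes a).symm
  haveI := FormalFib6.isLocalization_map A Ah B F M
  haveI := hred
  have hN : M.map (Algebra.TensorProduct.includeRight (R := A) (A := Ah) (B := B)) ≤ nonZeroDivisors (Ah ⊗[A] B) := by
    rintro _ ⟨s, hs, rfl⟩
    have hinj : Function.Injective (LinearMap.mulLeft A s) := fun a b h => by
      have h' : (a - b) * s = 0 := by
        rw [sub_mul, sub_eq_zero, mul_comm a, mul_comm b]; exact h
      exact sub_eq_zero.mp ((mem_nonZeroDivisors_iff_right.mp (hM hs)) _ h')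
    have h2 := Module.Flat.lTensor_preserves_injective_linearMap (M := Ah) (LinearMap.mulLeft A s) hinj
    rw [mem_nonZeroDivisors_iff_right]
    intro z hz
    refine h2 ((?_ : (LinearMap.mulLeft A s).lTensor Ah z = 0).trans (map_zero _).symm)
    rw [← hz]
    clear hz
    induction z using TensorProduct.induction_on with
    | zero => simp
    | tmul a b => simp [mul_comm s b]
    | add u v hu hv => rw [map_add, hu, hv, add_mul]
  haveI := finite_integralClosure_localization Ah (Ah ⊗[A] B) (Ah ⊗[A] F)
    (M.map (Algebra.TensorProduct.includeRight (R := A) (A := Ah) (B := B))) hN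
  let C := integralClosure A F
  let j : Ah ⊗[A] C →ₐ[Ah] Ah ⊗[A] F := Algebra.TensorProduct.map (AlgHom.id Ah Ah) C.val
  have hj : Function.Injective j :=
    Module.Flat.lTensor_preserves_injective_linearMap (M := Ah) C.val.toLinearMap Subtype.val_injective
  have hint : ∀ z, j z ∈ integralClosure Ah (Ah ⊗[A] F) := fun z => by
    induction z using TensorProduct.induction_on with
    | zero => rw [map_zero]; exact zero_mem _
    | tmul a c =>
      rw [show j (a ⊗ₜ[A] c) = algebraMap Ah (Ah ⊗[A] F) a * ((1 : Ah) ⊗ₜ[A] (c : F)) by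
        simp [j, Algebra.TensorProduct.algebraMap_apply]]
      refine mul_mem (Subalgebra.algebraMap_mem _ a) ?_
      exact IsIntegral.tower_top (R := A) (A := Ah)
        ((c.2 : IsIntegral A (c : F)).map (Algebra.TensorProduct.includeRight (R := A) (A := Ah) (B := F)))
    | add u v hu hv => rw [map_add]; exact add_mem hu hv
  haveI := isNoetherian_of_isNoetherianRing_of_finite Ah (integralClosure Ah (Ah ⊗[A] F))
  haveI : Module.Finite Ah (Ah ⊗[A] C) :=
    Module.Finite.of_injective (j.codRestrict (integralClosure Ah (Ah ⊗[A] F)) hint).toLinearMap fun a b h =>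
      hj (congrArg Subtype.val h)
  exact Module.Finite.of_finite_tensorProduct_of_faithfullyFlat Ah

/-- A domain with geometrically reduced formal fibres is N-2. -/
theorem isN2_of_geomReduced (A : Type u) [CommRing A] [IsDomain A] [IsLocalRing A] [IsNoetherianRing A]
    (hA : EGA4.HasGeomReducedFormalFibres A) : CAlg.IsN2 A := by
  intro K' _ _ _ _ hfin
  classical
  let K := FractionRing A
  have hinj : Function.Injective (algebraMap A K') := by
    rw [IsScalarTower.algebraMap_eq A K K']
    exact (algebraMap K K').injective.comp (IsFractionRing.injective A K)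
  haveI : IsReduced (K' ⊗[A] EGA4.Cpl A) := FlatLoc6.isReduced_baseChange_field (A := A) (EGA4.Cpl A) hA K'
  -- a finite order
  let b := Module.Free.chooseBasis K K'
  have hex : ∀ i, ∃ s : A, s ≠ 0 ∧ IsIntegral A (algebraMap A K' s * b i) := fun i => by
    obtain ⟨s, hs⟩ := IsIntegral.exists_multiple_integral_of_isLocalization (nonZeroDivisors A) (b i)
      (IsIntegral.of_finite K (b i))
    exact ⟨s, nonZeroDivisors.ne_zero s.2, by rwa [← Algebra.smul_def]⟩
  choose s hs hint using hex
  let B := Algebra.adjoin A (Set.range fun i => algebraMap A K' (s i) * b i)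
  haveI : Module.Finite A B := Algebra.finite_adjoin_of_finite_of_isIntegral (Set.finite_range _)
    (by rintro _ ⟨i, rfl⟩; exact hint i)
  haveI : IsFractionRing B K' := by
    refine IsFractionRing.of_field B K' fun z => ?_
    let ι : FractionRing B →+* K' := IsFractionRing.lift (g := algebraMap B K') (show Function.Injective (algebraMap B K') from Subtype.val_injective)
    have hB : ∀ x : B, (x : K') ∈ ι.fieldRange := fun x => ⟨algebraMap B _ x, IsFractionRing.lift_algebraMap _ x⟩
    have hAK : ∀ c : K, algebraMap K K' c ∈ ι.fieldRange := fun c => by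
      obtain ⟨x, y, -, rfl⟩ := IsFractionRing.div_surjective A c
      rw [map_div₀, ← IsScalarTower.algebraMap_apply, ← IsScalarTower.algebraMap_apply]
      exact div_mem (hB (algebraMap A B x)) (hB (algebraMap A B y))
    have hb : ∀ i, b i ∈ ι.fieldRange := fun i => by
      have h0 : algebraMap A K' (s i) ≠ 0 := (map_ne_zero_iff _ hinj).mpr (hs i)
      rw [← mul_div_cancel_left₀ (b i) h0]
      exact div_mem (hB ⟨_, Algebra.subset_adjoin ⟨i, rfl⟩⟩) (hB (algebraMap A B (s i)))
    obtain ⟨w, hw⟩ : z ∈ ι.fieldRange := by
      rw [← b.sum_repr z]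
      exact Subfield.sum_mem _ fun i _ => by rw [Algebra.smul_def]; exact mul_mem (hAK _) (hb i)
    obtain ⟨x, y, -, rfl⟩ := IsFractionRing.div_surjective B w
    refine ⟨x, y, ?_⟩
    simp only [ι] at hw
    rw [map_div₀, IsFractionRing.lift_algebraMap, IsFractionRing.lift_algebraMap] at hw
    exact hw.symm
  have hred' : IsReduced (EGA4.Cpl A ⊗[A] B) := isReduced_of_injective
    ((Algebra.TensorProduct.comm A (EGA4.Cpl A) K').toAlgHom.comp
      (Algebra.TensorProduct.map (AlgHom.id A (EGA4.Cpl A)) B.val))
    ((Algebra.TensorProduct.comm A (EGA4.Cpl A) K').injective.comp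
      (Module.Flat.lTensor_preserves_injective_linearMap (M := EGA4.Cpl A) B.val.toLinearMap Subtype.val_injective))
  exact finite_integralClosure_of_reduced_tensor A B K' (nonZeroDivisors B) le_rfl hred'

end Groth.Agent.CompleteNagata
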