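import Groth.Agent.CompleteNagata.LocalGlobal
import Groth.Agent.S2657
import Groth.Agent.N12Aux.Nagata
import Groth.Agent.RegLoc6.Normal
import Groth.Prelude.Def_EGA4b
import Mathlib.RingTheory.LocalProperties.IntegrallyClosed

/-!
# Quasi-excellent rings are Nagata
-/

namespace Groth.Agent.CompleteNagata

universe u

theorem isN2_localization_quotient (A : Type u) [CommRing A] (p : Ideal A) [p.IsPrime] (n : Ideal (A ⧸ p)) [n.IsPrime]
    (h : CAlg.IsNagata (Localization.AtPrime (n.comap (Ideal.Quotient.mk p)))) : CAlg.IsN2 (Localization.AtPrime n) :=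
  N12Aux.isN2_of_isNagata (N12Aux.isNagata_of_surjective _
    (RingHom.surjective_localRingHom_of_surjective (Ideal.Quotient.mk p) Ideal.Quotient.mk_surjective n) h)

theorem isNagata_of_local_of_generic (A : Type u) [CommRing A] [IsNoetherianRing A]
    (hloc : ∀ (m : Ideal A) [m.IsMaximal], CAlg.IsNagata (Localization.AtPrime m))
    (hgen : ∀ (p : Ideal A) [p.IsPrime] (K' : Type u) [Field K'] [Algebra (A ⧸ p) K']
        [Algebra (FractionRing (A ⧸ p)) K'] [IsScalarTower (A ⧸ p) (FractionRing (A ⧸ p)) K']
        [FiniteDimensional (FractionRing (A ⧸ p)) K'] [IsPurelyInseparable (FractionRing (A ⧸ p)) K']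
        (B' : Subalgebra (A ⧸ p) K'), Module.Finite (A ⧸ p) B' → IsFractionRing B' K' →
          ∃ f : B', f ≠ 0 ∧ IsIntegrallyClosed (Localization.Away f)) : CAlg.IsNagata A := by
  refine ⟨inferInstance, fun p _ => S4562.result (A ⧸ p) fun K' _ _ _ _ hfin hpi => ?_⟩
  refine finite_integralClosure_of_local_of_generic (A ⧸ p) (fun n _ => ?_) K' (hgen p K')
  haveI : (n.comap (Ideal.Quotient.mk p)).IsMaximal := Ideal.comap_isMaximal_of_surjective _ Ideal.Quotient.mk_surjective
  exact isN2_localization_quotient A p n (hloc _)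

/-- The regular locus of a domain with open regular locus contains a normal basic open. -/
theorem exists_normal_away_of_isOpen (B : Type u) [CommRing B] [IsDomain B]
    (h : IsOpen (EGA4.regLocus B)) : ∃ f : B, f ≠ 0 ∧ IsIntegrallyClosed (Localization.Away f) := by
  have hgen : (⟨⊥, Ideal.isPrime_bot⟩ : PrimeSpectrum B) ∈ EGA4.regLocus B := by
    show IsRegularLocalRing (Localization.AtPrime (⊥ : Ideal B))
    haveI : IsFractionRing B (Localization.AtPrime (⊥ : Ideal B)) := by
      have e : (⊥ : Ideal B).primeCompl = nonZeroDivisors B := by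
        ext x
        simp [Ideal.primeCompl, mem_nonZeroDivisors_iff_ne_zero]
      show IsLocalization (nonZeroDivisors B) _
      rw [← e]
      infer_instance
    letI := IsFractionRing.toField B (K := Localization.AtPrime (⊥ : Ideal B))
    infer_instance
  obtain ⟨_, ⟨f, rfl⟩, hf, hsub⟩ := PrimeSpectrum.isTopologicalBasis_basic_opens.exists_subset_of_mem_open hgen h
  have hf0 : f ≠ 0 := fun h0 => hf (h0 ▸ Submodule.zero_mem _)
  refine ⟨f, hf0, ?_⟩
  haveI : IsDomain (Localization.Away f) :=
    IsLocalization.isDomain_localization (powers_le_nonZeroDivisors_of_noZeroDivisors hf0)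
  refine IsIntegrallyClosed.of_localization_maximal fun P _ hP => ?_
  let Q := P.comap (algebraMap B (Localization.Away f))
  have hQ : (⟨Q, Ideal.comap_isPrime _ P⟩ : PrimeSpectrum B) ∈ EGA4.regLocus B := hsub fun hfQ => by
    exact Ideal.IsPrime.ne_top (I := P) inferInstance (Ideal.eq_top_of_isUnit_mem _ hfQ
      (IsLocalization.map_units (Localization.Away f) ⟨f, Submonoid.mem_powers f⟩))
  haveI : IsRegularLocalRing (Localization.AtPrime Q) := hQ
  haveI := RegLoc6.isIntegrallyClosed_of_isRegularLocalRing (Localization.AtPrime Q)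
  haveI : IsLocalization.AtPrime (Localization.AtPrime P) Q :=
    IsLocalization.isLocalization_atPrime_localization_atPrime (Submonoid.powers f) P
  exact IsIntegrallyClosed.of_equiv
    (IsLocalization.algEquiv Q.primeCompl (Localization.AtPrime Q) (Localization.AtPrime P)).toRingEquiv

theorem isNagata_of_isQuasiExcellent (A : Type u) [CommRing A] (hA : EGA4.IsQuasiExcellent A) :
    CAlg.IsNagata A := by
  obtain ⟨hN, hG, hJ⟩ := hA
  haveI := hN
  refine isNagata_of_local_of_generic A (fun m _ => ?_) fun p _ K' _ _ _ _ _ _ B' hB' _ => ?_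
  · haveI : IsNoetherianRing (Localization.AtPrime m) := IsLocalization.isNoetherianRing m.primeCompl _ hN
    exact S2657.result _ fun q _ => FlatLoc6.geomReduced_of_geometricallyRegular ((hG.2 m).2 q).2
  · haveI : Algebra.FiniteType (A ⧸ p) B' := Module.Finite.finiteType _
    letI : Algebra A B' := ((algebraMap (A ⧸ p) B').comp (Ideal.Quotient.mk p)).toAlgebra
    haveI : IsScalarTower A (A ⧸ p) B' := IsScalarTower.of_algebraMap_eq' rfl
    haveI : Algebra.FiniteType A B' :=
      Algebra.FiniteType.trans (S := A ⧸ p) inferInstance inferInstance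
    exact exists_normal_away_of_isOpen B' (hJ B' inferInstance)

end Groth.Agent.CompleteNagata
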