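import Groth.Prelude.Def_Found
import Groth.Agent.S4562
import Groth.Agent.AdicLib.Basic
import Groth.Agent.N12Aux.Nagata
import Mathlib

/-!
# Tate's lemma: N-2 lifts along complete principal prime ideals
-/

namespace Groth.Agent.CompleteNagata

universe u

open Ideal

/-- Finite purely inseparable extensions have bounded exponent. -/
theorem exists_pow_mem (K L : Type u) [Field K] [Field L] [Algebra K L] [FiniteDimensional K L]
    [IsPurelyInseparable K L] (p : ℕ) [ExpChar K p] :
    ∃ e : ℕ, ∀ z : L, z ^ p ^ e ∈ (algebraMap K L).fieldRange := by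
  classical
  haveI : ExpChar L p := expChar_of_injective_ringHom (algebraMap K L).injective p
  let b := Module.Free.chooseBasis K L
  choose e he using fun i => IsPurelyInseparable.pow_mem K p (b i)
  refine ⟨Finset.univ.sup e, fun z => ?_⟩
  rw [← b.sum_repr z, sum_pow_char_pow]
  refine Subfield.sum_mem _ fun i _ => ?_
  rw [Algebra.smul_def, mul_pow, ← map_pow]
  refine mul_mem ⟨_, rfl⟩ ?_
  obtain ⟨c, hc⟩ := he i
  rw [← Nat.add_sub_cancel' (Finset.le_sup (f := e) (Finset.mem_univ i)), pow_add, pow_mul, ← hc, ← map_pow]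
  exact ⟨_, rfl⟩

/-- A field generated over a subfield by an independence-bounded spanning set is finite. -/
theorem finiteDimensional_of_bounded {κ E : Type u} [Field κ] [Field E] [Algebra κ E] (T : Set E)
    (hT : Submodule.span κ T = ⊤) (n : ℕ)
    (h : ∀ t : Finset E, ↑t ⊆ T → LinearIndependent κ (fun x : (t : Set E) => (x : E)) → t.card ≤ n) :
    FiniteDimensional κ E := by
  classical
  obtain ⟨B, hBT, hsp, hli⟩ := exists_linearIndependent κ T
  have hfin : B.Finite := by
    by_contra hinf
    obtain ⟨t, htB, htc⟩ := Set.Infinite.exists_subset_card_eq hinf (n + 1)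
    have := h t (htB.trans hBT) (hli.comp (Set.inclusion htB) (Set.inclusion_injective _))
    omega
  exact ⟨⟨hfin.toFinset, by rw [hfin.coe_toFinset, hsp, hT]⟩⟩

/-- A radicial algebra with bounded independent sets over an N-2 domain is finite. -/
theorem finite_of_pow_mem {R₁ S₁ : Type u} [CommRing R₁] [IsDomain R₁] [CommRing S₁] [IsDomain S₁]
    [IsNoetherianRing R₁] [Algebra R₁ S₁] (hinj : Function.Injective (algebraMap R₁ S₁)) (h2 : CAlg.IsN2 R₁) (q : ℕ) (hq0 : 0 < q)
    (hq₁ : ∀ z : S₁, ∃ r : R₁, z ^ q = algebraMap R₁ S₁ r) (n : ℕ)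
    (hind : ∀ (ι : Type u) [Fintype ι] (f : ι → S₁), LinearIndependent R₁ f → Fintype.card ι ≤ n) :
    Module.Finite R₁ S₁ := by
  classical
  let E := FractionRing S₁
  let κ := FractionRing R₁
  haveI : FaithfulSMul R₁ E := (faithfulSMul_iff_algebraMap_injective _ _).mpr (by
    rw [IsScalarTower.algebraMap_eq R₁ S₁ E]
    exact (IsFractionRing.injective S₁ E).comp hinj)
  letI : Algebra κ E := FractionRing.liftAlgebra R₁ E
  haveI : IsScalarTower R₁ κ E := FractionRing.isScalarTower_liftAlgebra R₁ E
  haveI : FiniteDimensional κ E := by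
    refine finiteDimensional_of_bounded (Set.range (algebraMap S₁ E)) ?_ n fun t ht hli => ?_
    · rw [eq_top_iff]
      intro v _
      obtain ⟨a, b, hb, rfl⟩ := IsFractionRing.div_surjective S₁ v
      obtain ⟨r, hr⟩ := hq₁ b
      have hb' : algebraMap S₁ E b ≠ 0 :=
        (map_ne_zero_iff _ (IsFractionRing.injective S₁ E)).mpr (nonZeroDivisors.ne_zero hb)
      have heq : algebraMap S₁ E a / algebraMap S₁ E b =
          (algebraMap R₁ κ r)⁻¹ • algebraMap S₁ E (a * b ^ (q - 1)) := by
        rw [Algebra.smul_def, map_inv₀, ← IsScalarTower.algebraMap_apply R₁ κ E,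
          IsScalarTower.algebraMap_apply R₁ S₁ E, ← hr, map_mul, map_pow, map_pow,
          eq_inv_mul_iff_mul_eq₀ (pow_ne_zero _ hb'), mul_div_assoc', div_eq_iff hb', mul_assoc,
          ← pow_succ, Nat.sub_add_cancel hq0, mul_comm]
      rw [heq]
      exact Submodule.smul_mem _ _ (Submodule.subset_span ⟨_, rfl⟩)
    · choose pre hpre using fun v : (t : Set E) => ht v.2
      have hpi : Function.Injective pre := fun a b h => Subtype.ext (by rw [← hpre a, ← hpre b, h])
      have hli' : LinearIndependent R₁ pre :=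
        LinearIndependent.of_comp (IsScalarTower.toAlgHom R₁ S₁ E).toLinearMap (by
          rw [show ⇑(IsScalarTower.toAlgHom R₁ S₁ E).toLinearMap ∘ pre = (fun v : (t : Set E) => (v : E)) from
            funext hpre]
          exact hli.restrict_scalars' R₁)
      simpa using hind _ pre hli'
  haveI : Module.Finite R₁ (integralClosure R₁ E) := h2 E inferInstance
  let i : S₁ →ₗ[R₁] integralClosure R₁ E :=
    ((IsScalarTower.toAlgHom R₁ S₁ E).codRestrict (integralClosure R₁ E) fun z => by
      obtain ⟨r, hr⟩ := hq₁ z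
      refine IsIntegral.of_pow (R := R₁) hq0 ?_
      rw [← map_pow, hr, AlgHom.commutes]
      exact isIntegral_algebraMap).toLinearMap
  exact Module.Finite.of_injective i fun a b h =>
    IsFractionRing.injective S₁ E (congrArg Subtype.val h)

/-- Residually independent families are independent. -/
theorem linearIndependent_of_residual {R R₁ S S₁ : Type u} [CommRing R] [IsDomain R] [IsNoetherianRing R]
    [CommRing R₁] [CommRing S] [CommRing S₁] [Algebra R S] [Algebra R₁ S₁] (π : R →+* R₁) (σ : S →+* S₁)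
    (hcomm : ∀ r, σ (algebraMap R S r) = algebraMap R₁ S₁ (π r)) (x : R) (hker : RingHom.ker π = Ideal.span {x})
    (hxne : Ideal.span ({x} : Set R) ≠ ⊤) (hreg : ∀ (n : ℕ) (z : S), algebraMap R S (x ^ n) * z = 0 → z = 0)
    (ι : Type u) [Fintype ι] (f : ι → S) (hf : LinearIndependent R₁ (σ ∘ f)) : LinearIndependent R f := by
  rw [Fintype.linearIndependent_iff]
  intro a ha
  have key : ∀ n : ℕ, ∀ v, a v ∈ Ideal.span ({x} : Set R) ^ n := by
    intro n
    induction n with
    | zero => exact fun v => by simp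
    | succ n ih =>
      simp_rw [Ideal.span_singleton_pow, Ideal.mem_span_singleton] at ih ⊢
      choose b hb using ih
      have hb1 : ∑ v, b v • f v = 0 := hreg n _ (by
        rw [Finset.mul_sum, ← ha]
        refine Finset.sum_congr rfl fun v _ => ?_
        rw [hb v, Algebra.smul_def, Algebra.smul_def, map_mul, mul_assoc])
      have hb2 : ∑ v, π (b v) • σ (f v) = 0 := by
        rw [← map_zero σ, ← hb1, map_sum]
        refine Finset.sum_congr rfl fun v _ => ?_
        rw [Algebra.smul_def, Algebra.smul_def, map_mul, hcomm]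
      intro v
      have h4 : b v ∈ RingHom.ker π := Fintype.linearIndependent_iff.mp hf _ hb2 v
      rw [hker, Ideal.mem_span_singleton] at h4
      obtain ⟨c, hc⟩ := h4
      exact ⟨c, by rw [hb v, hc, pow_succ, mul_assoc]⟩
  intro v
  have h5 : a v ∈ (⨅ n, Ideal.span ({x} : Set R) ^ n) := (Submodule.mem_iInf _).mpr fun n => key n v
  rwa [Ideal.iInf_pow_eq_bot_of_isDomain _ hxne] at h5

/-- Lifting generators of a residual algebra. -/
theorem exists_residual_generators {R R₁ S S₁ : Type u} [CommRing R] [CommRing R₁] [CommRing S] [CommRing S₁]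
    [Algebra R S] [Algebra R₁ S₁] [Module.Finite R₁ S₁] (π : R →+* R₁) (hπ : Function.Surjective π) (σ : S →+* S₁)
    (hσ : Function.Surjective σ) (hcomm : ∀ r, σ (algebraMap R S r) = algebraMap R₁ S₁ (π r)) :
    ∃ (m : ℕ) (g : Fin m → S), ∀ z : S, ∃ c : Fin m → R, σ (z - ∑ v, c v • g v) = 0 := by
  obtain ⟨m, g₁, hg₁⟩ := Module.Finite.exists_fin (R := R₁) (M := S₁)
  choose g hg using fun v => hσ (g₁ v)
  refine ⟨m, g, fun z => ?_⟩
  obtain ⟨c, hc⟩ := (Submodule.mem_span_range_iff_exists_fun R₁).mp
    (hg₁ ▸ Submodule.mem_top : σ z ∈ Submodule.span R₁ (Set.range g₁))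
  choose c' hc' using fun v => hπ (c v)
  refine ⟨c', ?_⟩
  rw [map_sub, map_sum, ← hc, ← Finset.sum_sub_distrib]
  refine Finset.sum_eq_zero fun v _ => ?_
  rw [Algebra.smul_def, Algebra.smul_def, map_mul, hcomm, hc', hg, sub_self]

variable (R : Type u) [CommRing R] [IsDomain R] [IsNoetherianRing R] [IsIntegrallyClosed R]

theorem tate_core (x : R) (hx : x ≠ 0) [(Ideal.span ({x} : Set R)).IsPrime]
    (h2 : CAlg.IsN2 (R ⧸ Ideal.span ({x} : Set R))) [IsAdicComplete (Ideal.span ({x} : Set R)) R]
    (L : Type u) [Field L] [Algebra R L] [Algebra (FractionRing R) L] [IsScalarTower R (FractionRing R) L]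
    [FiniteDimensional (FractionRing R) L] (p e : ℕ) [ExpChar L p]
    (hq : ∀ z : L, z ^ p ^ e ∈ (algebraMap (FractionRing R) L).fieldRange)
    (y : L) (hy : y ^ p ^ e = algebraMap R L x) : Module.Finite R (integralClosure R L) := by
  classical
  let K := FractionRing R
  let S := integralClosure R L
  let q := p ^ e
  have hq0 : 0 < q := pow_pos (expChar_pos L p) e
  have hinjL : Function.Injective (algebraMap R L) := by
    rw [IsScalarTower.algebraMap_eq R K L]
    exact (algebraMap K L).injective.comp (IsFractionRing.injective R K)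
  have hFex : ∀ z : S, ∃ r : R, algebraMap R L r = (z : L) ^ q := by
    intro z
    obtain ⟨c, hc⟩ := hq (z : L)
    have hint : IsIntegral R c := by
      rw [← isIntegral_algebraMap_iff (A := K) (B := L) (algebraMap K L).injective, hc]
      exact (z.2 : IsIntegral R (z : L)).pow _
    obtain ⟨r, hr⟩ := IsIntegrallyClosed.isIntegral_iff.mp hint
    exact ⟨r, by rw [IsScalarTower.algebraMap_apply R K L, hr, hc]⟩
  choose F hF using hFex
  let Fh : S →+* R :=
    { toFun := F
      map_one' := hinjL (by rw [hF, map_one, OneMemClass.coe_one, one_pow])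
      map_mul' := fun a b => hinjL (by rw [hF, map_mul, hF, hF, MulMemClass.coe_mul, mul_pow])
      map_zero' := hinjL (by rw [hF, map_zero, ZeroMemClass.coe_zero, zero_pow hq0.ne'])
      map_add' := fun a b => hinjL (by rw [hF, map_add, hF, hF, AddMemClass.coe_add, add_pow_expChar_pow]) }
  have hFalg : ∀ r : R, Fh (algebraMap R S r) = r ^ q := fun r => hinjL (by
    show algebraMap R L (F (algebraMap R S r)) = _
    rw [hF, map_pow]; rfl)
  have hFinj : Function.Injective Fh := (injective_iff_map_eq_zero Fh).mpr fun z hz => by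
    have h1 := hF z
    rw [show F z = 0 from hz, map_zero, eq_comm] at h1
    exact Subtype.ext (eq_zero_of_pow_eq_zero h1)
  have hSF : ∀ z : S, z ^ q = algebraMap R S (Fh z) := fun z => Subtype.ext (hF z).symm
  have hymem : y ∈ S := by
    refine IsIntegral.of_pow (R := R) hq0 ?_
    rw [hy]; exact isIntegral_algebraMap
  let y₀ : S := ⟨y, hymem⟩
  have hy₀ : y₀ ^ q = algebraMap R S x := Subtype.ext hy
  have hFy : Fh y₀ = x := hinjL ((hF y₀).trans hy)
  have hy0 : y ≠ 0 := fun h => hx (hinjL (by rw [← hy, h, zero_pow hq0.ne', map_zero]))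
  let P : Ideal S := (Ideal.span ({x} : Set R)).comap Fh
  haveI hPp : P.IsPrime := Ideal.comap_isPrime _ _
  have hP : ∀ z : S, z ∈ P → ∃ w : S, z = y₀ * w := fun z hz => by
    have hz' : Fh z ∈ Ideal.span ({x} : Set R) := hz
    obtain ⟨a, ha⟩ := Ideal.mem_span_singleton.mp hz'
    have hw : ((z : L) / y) ^ q = algebraMap R L a := by
      rw [div_pow, hy, ← hF, show F z = x * a from ha, map_mul,
        mul_div_cancel_left₀ _ ((map_ne_zero_iff _ hinjL).mpr hx)]
    refine ⟨⟨(z : L) / y, IsIntegral.of_pow (R := R) hq0 (by rw [hw]; exact isIntegral_algebraMap)⟩,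
      Subtype.ext ?_⟩
    show (z : L) = y * ((z : L) / y)
    rw [mul_div_cancel₀ _ hy0]
  have hcomap : ∀ r : R, algebraMap R S r ∈ P ↔ r ∈ Ideal.span ({x} : Set R) := fun r => by
    show Fh (algebraMap R S r) ∈ Ideal.span ({x} : Set R) ↔ _
    rw [hFalg]
    exact ⟨fun h => Ideal.IsPrime.mem_of_pow_mem inferInstance q h,
      fun h => Ideal.pow_mem_of_mem _ h _ hq0⟩
  let R₁ := R ⧸ Ideal.span ({x} : Set R)
  let S₁ := S ⧸ P
  let g : R₁ →+* S₁ := Ideal.quotientMap P (algebraMap R S) fun r hr => (hcomap r).mpr hr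
  have hg : Function.Injective g := Ideal.quotientMap_injective' fun r hr => (hcomap r).mp hr
  letI : Algebra R₁ S₁ := g.toAlgebra
  have hq₁ : ∀ z : S₁, ∃ r : R₁, z ^ q = g r := fun z => by
    obtain ⟨z, rfl⟩ := Ideal.Quotient.mk_surjective z
    exact ⟨Ideal.Quotient.mk _ (Fh z), by rw [← map_pow, hSF]; rfl⟩
  have hxne : Ideal.span ({x} : Set R) ≠ ⊤ := Ideal.IsPrime.ne_top ‹_›
  choose lift hlift using fun v : S₁ => Ideal.Quotient.mk_surjective (I := P) v
  haveI : Module.Finite R₁ S₁ := finite_of_pow_mem hg h2 q hq0 hq₁ (Module.finrank K L) fun ι _ f hf => by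
    have hR : LinearIndependent R (fun v => lift (f v)) :=
      linearIndependent_of_residual (Ideal.Quotient.mk _) (Ideal.Quotient.mk P) (fun _ => rfl) x Ideal.mk_ker hxne
        (fun n z hz => (mul_eq_zero.mp hz).resolve_left fun h0 => pow_ne_zero n hx
          (hinjL ((congrArg Subtype.val h0).trans (map_zero _).symm))) ι _
        (by rw [show (Ideal.Quotient.mk P) ∘ (fun v => lift (f v)) = f from funext fun v => hlift (f v)]; exact hf)
    have hK : LinearIndependent K (fun v => (lift (f v) : L)) :=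
      (LinearIndependent.iff_fractionRing R K).mp
        (hR.map' (integralClosure R L).val.toLinearMap (LinearMap.ker_eq_bot.mpr Subtype.val_injective))
    exact hK.fintype_card_le_finrank
  obtain ⟨m, lg, hmodP₀⟩ := exists_residual_generators (R := R) (R₁ := R₁) (S := S) (S₁ := S₁)
    (Ideal.Quotient.mk _) Ideal.Quotient.mk_surjective (Ideal.Quotient.mk P) Ideal.Quotient.mk_surjective fun _ => rfl
  have hmodP : ∀ z : S, ∃ c : Fin m → R, z - ∑ v, c v • lg v ∈ P := fun z =>
    (hmodP₀ z).imp fun c hc => Ideal.Quotient.eq_zero_iff_mem.mp hc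
  let gens : (Fin q × Fin m) → S := fun iv => y₀ ^ (iv.1 : ℕ) * lg iv.2
  let φ : (Fin q × Fin m → R) →ₗ[R] S := Fintype.linearCombination R gens
  have hfilt : ∀ i ≤ q, ∀ z : S, ∃ v : Fin q × Fin m → R, ∃ w : S, z - φ v = y₀ ^ i * w := by
    intro i hi
    induction i with
    | zero => exact fun z => ⟨0, z, by simp⟩
    | succ i ih =>
      intro z
      obtain ⟨v, w, hvw⟩ := ih (by omega) z
      obtain ⟨c, hc⟩ := hmodP w
      obtain ⟨w', hw'⟩ := hP _ hc
      refine ⟨v + fun iv => if (iv.1 : ℕ) = i then c iv.2 else 0, w', ?_⟩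
      have h1 : φ (fun iv => if (iv.1 : ℕ) = i then c iv.2 else 0) = y₀ ^ i * ∑ v, c v • lg v := by
        simp only [φ, Fintype.linearCombination_apply, Fintype.sum_prod_type, Finset.mul_sum]
        rw [Finset.sum_eq_single (⟨i, by omega⟩ : Fin q)]
        · simp only [gens, if_true, mul_smul_comm]
        · intro b _ hb
          refine Finset.sum_eq_zero fun v _ => ?_
          rw [if_neg fun h => hb (Fin.ext h), zero_smul]
        · simp
      rw [map_add, h1, ← sub_sub, hvw, ← mul_sub, hw', pow_succ, mul_assoc]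
  haveI : IsPrecomplete (Ideal.span ({x} : Set R)) (Fin q × Fin m → R) :=
    (AdicLib.isAdicComplete_of_finite _ _).toIsPrecomplete
  haveI : IsHausdorff (Ideal.span ({x} : Set R)) S := ⟨fun z hz => hFinj (by
    have h5 : Fh z ∈ (⨅ n, Ideal.span ({x} : Set R) ^ n) := (Submodule.mem_iInf _).mpr fun n => by
      have h6 := hz n
      rw [SModEq.zero, Ideal.span_singleton_pow, Submodule.ideal_span_singleton_smul] at h6
      obtain ⟨w, -, rfl⟩ := Submodule.mem_smul_pointwise_iff_exists _ _ _ |>.mp h6
      rw [Algebra.smul_def, map_mul, hFalg, ← pow_mul, Ideal.span_singleton_pow]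
      exact Ideal.mul_mem_right _ _ (Ideal.mem_span_singleton.mpr (pow_dvd_pow x (Nat.le_mul_of_pos_right n hq0)))
    rw [Ideal.iInf_pow_eq_bot_of_isDomain _ hxne] at h5
    exact h5.trans (map_zero Fh).symm)⟩
  have hsurj : Function.Surjective φ := surjective_of_mkQ_comp_surjective (I := Ideal.span ({x} : Set R)) fun z => by
    obtain ⟨z, rfl⟩ := Submodule.mkQ_surjective _ z
    obtain ⟨v, w, hvw⟩ := hfilt q le_rfl z
    refine ⟨v, ?_⟩
    rw [LinearMap.comp_apply, Submodule.mkQ_apply, Submodule.mkQ_apply, eq_comm, Submodule.Quotient.eq, hvw, hy₀,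
      ← Algebra.smul_def]
    exact Submodule.smul_mem_smul (Ideal.subset_span rfl) Submodule.mem_top
  exact Module.Finite.of_surjective φ hsurj

omit [IsDomain R] [IsNoetherianRing R] [IsIntegrallyClosed R] in
/-- Adjoining a root keeps bounded exponent. -/
theorem exists_adjoin_root (K K' : Type u) [Field K] [Field K'] [Algebra K K'] [FiniteDimensional K K'] (p e : ℕ)
    [ExpChar K p] (he : ∀ z : K', z ^ p ^ e ∈ (algebraMap K K').fieldRange) (c : K) :
    ∃ (L : Type u) (_ : Field L) (_ : Algebra K L) (_ : K' →ₐ[K] L), FiniteDimensional K L ∧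
      (∀ z : L, z ^ p ^ e ∈ (algebraMap K L).fieldRange) ∧ ∃ y : L, y ^ p ^ e = algebraMap K L c := by
  let Ω := AlgebraicClosure K'
  haveI : ExpChar Ω p := expChar_of_injective_ringHom (algebraMap K Ω).injective p
  obtain ⟨y, hy⟩ := IsAlgClosed.exists_pow_nat_eq (algebraMap K Ω c) (n := p ^ e) (pow_pos (expChar_pos K p) e)
  let L := IntermediateField.adjoin K' ({y} : Set Ω)
  haveI : FiniteDimensional K' L := IntermediateField.adjoin.finiteDimensional
    (Algebra.IsAlgebraic.isAlgebraic (R := K') y).isIntegral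
  refine ⟨L, inferInstance, inferInstance, IsScalarTower.toAlgHom K K' L, Module.Finite.trans K' L, ?_,
    ⟨y, IntermediateField.subset_adjoin K' _ rfl⟩, Subtype.ext hy⟩
  rintro ⟨z, hz⟩
  suffices h : z ^ p ^ e ∈ (algebraMap K Ω).fieldRange by
    obtain ⟨d, hd⟩ := h
    exact ⟨d, Subtype.ext hd⟩
  let T : Subfield Ω := (algebraMap K Ω).fieldRange.comap (iterateFrobenius Ω p e)
  have hT : ∀ w, w ∈ T ↔ w ^ p ^ e ∈ (algebraMap K Ω).fieldRange := fun w => by
    rw [Subfield.mem_comap, iterateFrobenius_def]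
  rw [← hT]
  induction hz using IntermediateField.adjoin_induction with
  | mem w hw =>
    obtain rfl := hw
    exact (hT _).mpr ⟨c, hy.symm⟩
  | algebraMap w =>
    obtain ⟨d, hd⟩ := he w
    exact (hT _).mpr ⟨d, by rw [← map_pow, ← hd, ← IsScalarTower.algebraMap_apply]⟩
  | add _ _ _ _ h1 h2 => exact add_mem h1 h2
  | inv _ _ h => exact inv_mem h
  | mul _ _ _ _ h1 h2 => exact mul_mem h1 h2

/-- Tate's lemma. -/
theorem isN2_of_tate (x : R) [(Ideal.span ({x} : Set R)).IsPrime]
    (h2 : CAlg.IsN2 (R ⧸ Ideal.span ({x} : Set R))) [IsAdicComplete (Ideal.span ({x} : Set R)) R] :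
    CAlg.IsN2 R := by
  by_cases hx : x = 0
  · subst hx
    exact N12Aux.isN2_of_ringEquiv
      ((Ideal.quotEquivOfEq (Ideal.span_singleton_eq_bot.mpr rfl)).trans (RingEquiv.quotientBot R)) h2
  refine S4562.result R fun K' _ _ _ _ hfin hpi => ?_
  let K := FractionRing R
  let p := ringExpChar K
  haveI : ExpChar K p := ringExpChar.expChar K
  obtain ⟨e, he⟩ := exists_pow_mem K K' p
  obtain ⟨L, _, _, i, hL, hq, y, hy⟩ := exists_adjoin_root K K' p e he (algebraMap R K x)
  haveI : ExpChar L p := expChar_of_injective_ringHom (algebraMap K L).injective p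
  letI : Algebra R L := ((algebraMap K L).comp (algebraMap R K)).toAlgebra
  haveI : IsScalarTower R K L := IsScalarTower.of_algebraMap_eq' rfl
  haveI := tate_core R x hx h2 L p e hq y hy
  let i' := i.restrictScalars R
  let f : integralClosure R K' →ₗ[R] integralClosure R L :=
    ((i'.comp (integralClosure R K').val).codRestrict (integralClosure R L) fun z =>
      (z.2 : IsIntegral R (z : K')).map i').toLinearMap
  exact Module.Finite.of_injective f fun a b h => Subtype.ext (i.toRingHom.injective (congrArg Subtype.val h))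

end Groth.Agent.CompleteNagata
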